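import Groth.Agent.ProjLib.TensorPi
import Groth.Agent.FlatDescFiniteLib.Main

/-!
The Mittag-Leffler property descends along a finite injective map of Noetherian rings, for flat
modules.
-/

set_option autoImplicit false
universe u

open TensorProduct LinearMap

namespace Groth.Agent.ProjFinInjLib

set_option maxHeartbeats 800000

/-- The product map is injective for the family `Q`. -/
def InjFam (R : Type u) [CommRing R] (M : Type u) [AddCommGroup M] [Module R M] {ι : Type u}
    (Q : ι → Type u) [∀ i, AddCommGroup (Q i)] [∀ i, Module R (Q i)] : Prop :=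
  Function.Injective (TensorProduct.piRightHom R R M Q)

section

variable {R : Type u} [CommRing R] {M : Type u} [AddCommGroup M] [Module R M] {ι : Type u}
  {A B C : ι → Type u} [∀ i, AddCommGroup (A i)] [∀ i, Module R (A i)] [∀ i, AddCommGroup (B i)]
  [∀ i, Module R (B i)] [∀ i, AddCommGroup (C i)] [∀ i, Module R (C i)]

theorem piRightHom_lTensor (f : ∀ i, A i →ₗ[R] B i) (z : M ⊗[R] (∀ i, A i)) (i : ι) :
    piRightHom R R M B ((LinearMap.pi fun j => f j ∘ₗ LinearMap.proj j).lTensor M z) i =
      (f i).lTensor M (piRightHom R R M A z i) := by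
  induction z using TensorProduct.induction_on with
  | zero => simp
  | tmul x q => simp
  | add a b ha hb => simp [ha, hb]

theorem pi_map_injective (f : ∀ i, A i →ₗ[R] B i) (hf : ∀ i, Function.Injective (f i)) :
    Function.Injective (LinearMap.pi fun j => f j ∘ₗ LinearMap.proj j) :=
  fun _ _ h => funext fun i => hf i (congrFun h i)

theorem InjFam.of_injective [Module.Flat R M] (f : ∀ i, A i →ₗ[R] B i)
    (hf : ∀ i, Function.Injective (f i)) (hB : InjFam R M B) : InjFam R M A := by
  intro x y h
  apply Module.Flat.lTensor_preserves_injective_linearMap _ (pi_map_injective f hf)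
  apply hB
  funext i
  rw [piRightHom_lTensor, piRightHom_lTensor, h]

theorem InjFam.extension [Module.Flat R M] (f : ∀ i, A i →ₗ[R] B i) (g : ∀ i, B i →ₗ[R] C i)
    (hf : ∀ i, Function.Injective (f i)) (hex : ∀ i, Function.Exact (f i) (g i))
    (hA : InjFam R M A) (hC : InjFam R M C) : InjFam R M B := by
  show Function.Injective _
  rw [← LinearMap.ker_eq_bot, LinearMap.ker_eq_bot']
  intro z hz
  have hexpi : Function.Exact (LinearMap.pi fun j => f j ∘ₗ LinearMap.proj j)
      (LinearMap.pi fun j => g j ∘ₗ LinearMap.proj j) := by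
    intro b
    constructor
    · intro hb
      choose a ha using fun i => (hex i (b i)).1 (congrFun hb i)
      exact ⟨a, funext ha⟩
    · rintro ⟨a, rfl⟩
      exact funext fun i => (hex i).apply_apply_eq_zero (a i)
  have h0 : (LinearMap.pi fun j => g j ∘ₗ LinearMap.proj j).lTensor M z = 0 := by
    apply hC
    funext i
    rw [piRightHom_lTensor, hz, map_zero]
    simp
  obtain ⟨w, rfl⟩ := (Module.Flat.lTensor_exact M hexpi z).1 h0
  have hw : w = 0 := by
    apply hA
    rw [map_zero]
    funext i
    apply Module.Flat.lTensor_preserves_injective_linearMap (M := M) _ (hf i)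
    rw [← piRightHom_lTensor, hz]
    simp
  rw [hw, map_zero]

theorem InjFam.of_subsingleton [∀ i, Subsingleton (A i)] : InjFam R M A := by
  intro x y _
  have h : ∀ z : M ⊗[R] (∀ i, A i), z = 0 := fun z => by
    induction z using TensorProduct.induction_on with
    | zero => rfl
    | tmul m a => rw [Subsingleton.elim a 0, TensorProduct.tmul_zero]
    | add a b ha hb => rw [ha, hb, add_zero]
  rw [h x, h y]

end

section tower

variable {R S : Type u} [CommRing R] [CommRing S] [Algebra R S] {M : Type u} [AddCommGroup M]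
  [Module R M]

/-- `M ⊗[R] W ≅ (S ⊗[R] M) ⊗[S] W` for an `S`-module `W`. -/
noncomputable def towerEquiv (W : Type u) [AddCommGroup W] [Module R W] [Module S W]
    [IsScalarTower R S W] : M ⊗[R] W ≃+ (S ⊗[R] M) ⊗[S] W :=
  ((TensorProduct.comm R M W).toAddEquiv.trans
    (AlgebraTensorModule.cancelBaseChange R S S W M).symm.toAddEquiv).trans
      (TensorProduct.comm S W (S ⊗[R] M)).toAddEquiv

theorem towerEquiv_tmul (W : Type u) [AddCommGroup W] [Module R W] [Module S W]
    [IsScalarTower R S W] (m : M) (w : W) :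
    towerEquiv (S := S) W (m ⊗ₜ[R] w) = ((1 : S) ⊗ₜ[R] m) ⊗ₜ[S] w := by
  simp [towerEquiv]

/-- Families of `S`-modules are fine when `S ⊗ M` is Mittag-Leffler. -/
theorem InjFam.of_tower (hML : CAlg.IsMittagLeffler S (S ⊗[R] M)) {ι : Type u} (Q : ι → Type u)
    [∀ i, AddCommGroup (Q i)] [∀ i, Module R (Q i)] [∀ i, Module S (Q i)]
    [∀ i, IsScalarTower R S (Q i)] : InjFam R M Q := by
  have key : ∀ z i, piRightHom S S (S ⊗[R] M) Q (towerEquiv (S := S) (∀ i, Q i) z) i =
      towerEquiv (S := S) (Q i) (piRightHom R R M Q z i) := by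
    intro z i
    induction z using TensorProduct.induction_on with
    | zero => simp
    | tmul x q => simp [towerEquiv_tmul]
    | add a b ha hb =>
      rw [map_add, map_add, Pi.add_apply, ha, hb, map_add, Pi.add_apply, map_add]
  intro x y h
  apply (towerEquiv (S := S) (∀ i, Q i)).injective
  apply hML ι Q
  funext i
  rw [key, key, h]

end tower

/-- `R ⧸ I ⊗ Q → Q` for a module killed by `I`. -/
theorem eq_zero_of_quot_tmul {R : Type u} [CommRing R] (I : Ideal R) {Q : Type u} [AddCommGroup Q]
    [Module R Q] (hI : ∀ a ∈ I, ∀ x : Q, a • x = 0) (f : R) (x : Q)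
    (h : Ideal.Quotient.mk I f ⊗ₜ[R] x = 0) : f • x = 0 := by
  have hle : I ≤ LinearMap.ker (LinearMap.lsmul R Q) := fun a ha =>
    LinearMap.mem_ker.2 (LinearMap.ext fun y => hI a ha y)
  have := congrArg (TensorProduct.lift (Submodule.liftQ I (LinearMap.lsmul R Q) hle)) h
  rw [TensorProduct.lift.tmul, map_zero] at this
  exact this

variable {R S : Type u} [CommRing R] [IsNoetherianRing R] [CommRing S] [Algebra R S]
  [Module.Finite R S] {M : Type u} [AddCommGroup M] [Module R M] [Module.Flat R M]

theorem injFam_killed (hinj : Function.Injective (algebraMap R S))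
    (hML : CAlg.IsMittagLeffler S (S ⊗[R] M)) (I : Ideal R) :
    ∀ (ι : Type u) (Q : ι → Type u) [∀ i, AddCommGroup (Q i)] [∀ i, Module R (Q i)],
      (∀ i, ∀ a ∈ I, ∀ x : Q i, a • x = 0) → InjFam R M Q := by
  induction I using WellFoundedGT.induction with
  | ind I ih =>
    intro ι Q _ _ hQ
    by_cases htop : I = ⊤
    · have : ∀ i, Subsingleton (Q i) := fun i => ⟨fun x y => by
        rw [← one_smul R x, ← one_smul R y, hQ i 1 (htop ▸ Submodule.mem_top) x,
          hQ i 1 (htop ▸ Submodule.mem_top) y]⟩
      exact InjFam.of_subsingleton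
    have hlt : ∀ a, a ∉ I → I < I ⊔ Ideal.span {a} := fun a ha => by
      refine lt_of_le_of_ne le_sup_left fun h => ha ?_
      rw [h]
      exact Ideal.mem_sup_right (Ideal.mem_span_singleton_self a)
    by_cases hprime : I.IsPrime
    · obtain ⟨T, -, hT, hTI⟩ := Ideal.exists_ideal_over_prime_of_isIntegral I (⊥ : Ideal S) (by
        rw [← RingHom.ker_eq_comap_bot, (RingHom.injective_iff_ker_eq_bot _).1 hinj]
        exact bot_le)
      subst hTI
      have : Module.Finite (R ⧸ T.comap (algebraMap R S)) (S ⧸ T) :=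
        Module.Finite.of_restrictScalars_finite R _ _
      obtain ⟨θ, hθ⟩ := FlatDescFiniteLib.exists_dual (R := R ⧸ T.comap (algebraMap R S)) (S ⧸ T)
        Ideal.algebraMap_quotient_injective
      obtain ⟨f, hf⟩ := Ideal.Quotient.mk_surjective (θ 1)
      have hfI : f ∉ T.comap (algebraMap R S) := fun h => hθ (by
        rw [← hf, Ideal.Quotient.eq_zero_iff_mem]; exact h)
      let η : ∀ i, Q i →ₗ[R] (S ⧸ T) ⊗[R] Q i := fun i => TensorProduct.mk R (S ⧸ T) (Q i) 1
      have hker : ∀ i, ∀ a ∈ T.comap (algebraMap R S) ⊔ Ideal.span {f},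
          ∀ x : LinearMap.ker (η i), a • x = 0 := by
        intro i a ha x
        obtain ⟨b, hb, c, hc, rfl⟩ := Submodule.mem_sup.1 ha
        obtain ⟨c, rfl⟩ := Ideal.mem_span_singleton'.1 hc
        apply Subtype.ext
        have hfx : f • (x : Q i) = 0 := by
          apply eq_zero_of_quot_tmul _ (hQ i) f
          have h1 := congrArg ((θ.restrictScalars R).rTensor (Q i)) (LinearMap.mem_ker.1 x.2)
          simp only [η, TensorProduct.mk_apply, LinearMap.rTensor_tmul,
            LinearMap.restrictScalars_apply, map_zero] at h1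
          rw [hf]
          exact h1
        show (b + c * f) • (x : Q i) = 0
        rw [add_smul, hQ i b hb, mul_smul, hfx, smul_zero, add_zero]
      exact InjFam.extension (fun i => (LinearMap.ker (η i)).subtype) η
        (fun i => Subtype.val_injective) (fun i => LinearMap.exact_subtype_ker_map (η i))
        (ih _ (hlt f hfI) ι (fun i => LinearMap.ker (η i)) hker)
        (InjFam.of_tower hML (fun i => (S ⧸ T) ⊗[R] Q i))
    · rw [Ideal.isPrime_iff] at hprime
      push Not at hprime
      obtain ⟨a, b, hab, ha, hb⟩ := hprime htop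
      let μ : ∀ i, Q i →ₗ[R] Q i := fun i => LinearMap.lsmul R (Q i) a
      refine InjFam.extension (fun i => (LinearMap.range (μ i)).subtype)
        (fun i => (LinearMap.range (μ i)).mkQ) (fun i => Subtype.val_injective)
        (fun i => LinearMap.exact_subtype_mkQ _)
        (ih _ (hlt b hb) ι (fun i => LinearMap.range (μ i)) ?_)
        (ih _ (hlt a ha) ι (fun i => Q i ⧸ LinearMap.range (μ i)) ?_)
      · intro i c hc x
        obtain ⟨c₀, hc₀, c₁, hc₁, rfl⟩ := Submodule.mem_sup.1 hc
        obtain ⟨c₁, rfl⟩ := Ideal.mem_span_singleton'.1 hc₁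
        obtain ⟨y, hy⟩ := x.2
        apply Subtype.ext
        show (c₀ + c₁ * b) • (x : Q i) = 0
        rw [add_smul, hQ i c₀ hc₀, zero_add, ← hy]
        simp only [μ, LinearMap.lsmul_apply, ← mul_smul]
        exact hQ i _ (by rw [mul_assoc, mul_comm b a]; exact I.mul_mem_left _ hab) y
      · intro i c hc x
        obtain ⟨c₀, hc₀, c₁, hc₁, rfl⟩ := Submodule.mem_sup.1 hc
        obtain ⟨c₁, rfl⟩ := Ideal.mem_span_singleton'.1 hc₁
        obtain ⟨y, rfl⟩ := Submodule.mkQ_surjective _ x
        rw [← map_smul, Submodule.mkQ_apply, Submodule.Quotient.mk_eq_zero, add_smul,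
          hQ i c₀ hc₀, zero_add]
        exact ⟨c₁ • y, by simp [μ, ← mul_smul, mul_comm]⟩

theorem isMittagLeffler_desc (hinj : Function.Injective (algebraMap R S))
    (hML : CAlg.IsMittagLeffler S (S ⊗[R] M)) : CAlg.IsMittagLeffler R M :=
  fun ι Q _ _ => injFam_killed hinj hML ⊥ ι Q fun _ a ha x => by
    rw [Ideal.mem_bot.1 ha, zero_smul]

end Groth.Agent.ProjFinInjLib
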