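import Groth.Agent.ProjLib.Descent
import Groth.Agent.ProjFinInjLib.ML

/-!
Projectivity descends along a finite injective map of Noetherian rings (Raynaud–Gruson).
-/

set_option autoImplicit false
universe u

open TensorProduct LinearMap ProjLib

namespace Groth.Agent.ProjFinInjLib

set_option maxHeartbeats 800000

variable {R : Type u} [CommRing R] [IsNoetherianRing R] {S : Type u} [CommRing S] [Algebra R S]
  [Module.Finite R S] (hinj : Function.Injective (algebraMap R S))
  {M : Type u} [AddCommGroup M] [Module R M]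

/-- `S ⊗ N → S ⊗ M` is injective when `M ⧸ N` is flat. -/
theorem baseChange_subtype_injective {X : Type u} [AddCommGroup X] [Module R X] (N : Submodule R X)
    [Module.Flat R (X ⧸ N)] : Function.Injective (N.subtype.baseChange S) := by
  rw [LinearMap.baseChange_eq_ltensor]
  exact LinearMap.lTensor_injective_of_exact_of_flat N.mkQ N.mkQ_surjective N.subtype
    Subtype.val_injective (LinearMap.exact_subtype_mkQ N) S

include hinj

/-- A flat module embeds in its base change. -/
theorem mk_injective_of_flat (X : Type u) [AddCommGroup X] [Module R X] [Module.Flat R X] :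
    Function.Injective (TensorProduct.mk R S X 1) := by
  have h : (TensorProduct.mk R S X 1) =
      (Algebra.linearMap R S).rTensor X ∘ₗ (TensorProduct.lid R X).symm.toLinearMap :=
    LinearMap.ext fun x => by simp
  rw [h, LinearMap.coe_comp]
  exact (Module.Flat.rTensor_preserves_injective_linearMap (Algebra.linearMap R S) hinj).comp
    (LinearEquiv.injective _)

/-- If `A ⊗ S` is a direct summand, `M ⧸ A` is flat. -/
theorem flat_quotient_of_isCompl [Module.Projective S (S ⊗[R] M)] {A : Submodule R M}
    {C : Submodule S (S ⊗[R] M)} (hc : IsCompl (A.baseChange S) C) : Module.Flat R (M ⧸ A) := by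
  have hCproj : Module.Projective S C :=
    Module.Projective.of_split C.subtype (C.projectionOnto (A.baseChange S) hc.symm)
      (LinearMap.ext fun c => Submodule.projectionOnto_apply_left hc.symm c)
  let e : C ≃ₗ[S] S ⊗[R] (M ⧸ A) :=
    (Submodule.quotientEquivOfIsCompl (A.baseChange S) C hc).symm ≪≫ₗ
      Submodule.quotEquivOfEq _ _ (ker_baseChange_mkQ A).symm ≪≫ₗ
        (A.mkQ.baseChange S).quotKerEquivOfSurjective (baseChange_mkQ_surjective A)
  have : Module.Projective S (S ⊗[R] (M ⧸ A)) := Module.Projective.of_equiv e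
  exact FlatDescFiniteLib.desc R S hinj (M ⧸ A) inferInstance

/-- The submodule is recovered from its base change. -/
theorem pre_eq_of_flat {A : Submodule R M} [Module.Flat R (M ⧸ A)] {W : Submodule S (S ⊗[R] M)}
    (hW : A.baseChange S = W) : pre W = A := by
  subst hW
  ext m
  rw [mem_pre, ← ker_baseChange_mkQ, LinearMap.mem_ker, LinearMap.baseChange_tmul]
  constructor
  · intro h
    rw [← Submodule.Quotient.mk_eq_zero A, ← Submodule.mkQ_apply]
    exact mk_injective_of_flat hinj (M ⧸ A) (h.trans (map_zero _).symm)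
  · intro h
    rw [Submodule.mkQ_apply, (Submodule.Quotient.mk_eq_zero A).2 h, TensorProduct.tmul_zero]

omit hinj in
theorem projective_baseChange_subquotient [Module.Projective S (S ⊗[R] M)] {A A' : Submodule R M}
    (hle : A ≤ A') {C C' : Submodule S (S ⊗[R] M)} (hc : IsCompl (A.baseChange S) C)
    (hc' : IsCompl (A'.baseChange S) C')
    (hι : Function.Injective ((A'.map A.mkQ).subtype.baseChange S)) :
    Module.Projective S (S ⊗[R] (A'.map A.mkQ)) := by
  let N := A'.map A.mkQ
  let π := A.mkQ.baseChange S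
  have hπker : ∀ z, π z = 0 ↔ z ∈ A.baseChange S := fun z => by
    rw [← ker_baseChange_mkQ, LinearMap.mem_ker]
  let ι := N.subtype.baseChange S
  have hιinj : Function.Injective ι := hι
  have hιrange : N.baseChange S = (A'.baseChange S).map π := by
    rw [Submodule.baseChange_eq_span, Submodule.baseChange_eq_span, Submodule.map_span]
    congr 1
    ext z
    simp [N, π]
  let p := C.projection (A.baseChange S) hc.symm
  let p' := (A'.baseChange S).projection C' hc'
  have hsub : ∀ z, z - p z ∈ A.baseChange S := fun z => by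
    rw [← Submodule.projection_apply_eq_zero_iff hc.symm, map_sub]
    rw [Submodule.projection_apply_left hc.symm ⟨p z, Submodule.projection_apply_mem hc.symm z⟩]
    exact sub_self _
  have hπp : ∀ z, π (p z) = π z := fun z => by
    rw [eq_comm, ← sub_eq_zero, ← map_sub, hπker]
    exact hsub z
  have hkerle : LinearMap.ker π ≤ LinearMap.ker p := fun z hz =>
    (Submodule.projection_apply_eq_zero_iff hc.symm).2 ((hπker z).1 hz)
  let sec := (LinearMap.ker π).liftQ p hkerle ∘ₗ
    (π.quotKerEquivOfSurjective (baseChange_mkQ_surjective A)).symm.toLinearMap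
  have hsec : ∀ z, sec (π z) = p z := fun z => by
    have : (π.quotKerEquivOfSurjective (baseChange_mkQ_surjective A)).symm (π z) =
        Submodule.Quotient.mk z := by
      rw [LinearEquiv.symm_apply_eq]; rfl
    simp [sec, this]
  let r : S ⊗[R] M →ₗ[S] S ⊗[R] N :=
    (LinearEquiv.ofInjective ι hιinj).symm.toLinearMap ∘ₗ
      (π ∘ₗ p').codRestrict (LinearMap.range ι) (fun z => by
        show π (p' z) ∈ N.baseChange S
        rw [hιrange]
        exact Submodule.mem_map_of_mem (Submodule.projection_apply_mem hc' z))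
  have hr : ∀ z, ι (r z) = π (p' z) := fun z =>
    congrArg Subtype.val ((LinearEquiv.ofInjective ι hιinj).apply_symm_apply _)
  refine Module.Projective.of_split (sec ∘ₗ ι) r (LinearMap.ext fun w => hιinj ?_)
  show ι (r (sec (ι w))) = ι w
  obtain ⟨y, hy, hyw⟩ : ι w ∈ (A'.baseChange S).map π := hιrange ▸ LinearMap.mem_range_self ι w
  rw [hr, ← hyw, hsec]
  have hpy : p y ∈ A'.baseChange S := by
    have h1 := Submodule.baseChange_mono S hle (hsub y)
    simpa using sub_mem hy h1
  rw [Submodule.projection_apply_left hc' ⟨_, hpy⟩, hπp]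

section step

variable {ι : Type u} (Q : ι → Submodule S (S ⊗[R] M))

omit hinj [IsNoetherianRing R] [Module.Finite R S] in
theorem adm_eq {J : Set ι} (h : NS Q J ≤ (pre (NS Q J)).baseChange S) :
    (pre (NS Q J)).baseChange S = NS Q J :=
  le_antisymm (baseChange_le_of_le_pre le_rfl) h

theorem descent_step [Module.Projective S (S ⊗[R] M)] (hind : iSupIndep Q) (htop : iSup Q = ⊤)
    (hcount : ∀ i, ∃ s : Set (S ⊗[R] M), s.Countable ∧ Submodule.span S s = Q i)
    (J : Set ι) (hJ : NS Q J ≤ (pre (NS Q J)).baseChange S) (hJne : J ≠ Set.univ) :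
    ∃ (J' : Set ι) (C : Submodule R M), J ⊂ J' ∧ NS Q J' ≤ (pre (NS Q J')).baseChange S ∧
      Module.Projective R C ∧ Disjoint C (pre (NS Q J)) ∧
      C ⊔ pre (NS Q J) = pre (NS Q J') := by
  classical
  choose s hs hspan using hcount
  choose T hT using fun t : S ⊗[R] M => exists_finset_mem_baseChange t
  choose σ hσ using fun m : M => exists_finset_mem_NS Q htop ((1 : S) ⊗ₜ[R] m)
  obtain ⟨i₀, hi₀⟩ := (Set.ne_univ_iff_exists_notMem J).1 hJne
  let gens : ι → Set M := fun i => ⋃ t ∈ s i, (↑(T t) : Set M)
  have hgens : ∀ i, (gens i).Countable := fun i =>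
    (hs i).biUnion fun t _ => (T t).countable_toSet
  obtain ⟨I', hI'c, hi₀', hI'⟩ := exists_countable_closed (fun i => ⋃ m ∈ gens i, (↑(σ m) : Set ι))
    (fun i => (hgens i).biUnion fun m _ => (σ m).countable_toSet) i₀
  let G : Set M := ⋃ i ∈ I', gens i
  have hGc : G.Countable := hI'c.biUnion fun i _ => hgens i
  have hG : Submodule.span R G ≤ pre (NS Q I') := by
    rw [Submodule.span_le]
    intro m hm
    obtain ⟨i, hi, hmi⟩ := Set.mem_iUnion₂.1 hm
    exact mem_pre.2 (NS_mono Q ((Set.subset_biUnion_of_mem (u := fun m => (↑(σ m) : Set ι))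
      hmi).trans (hI' i hi)) (hσ m))
  let J' := J ∪ I'
  let M' : Submodule R M := pre (NS Q J) ⊔ Submodule.span R G
  have hM'le : M' ≤ pre (NS Q J') :=
    sup_le (pre_mono (NS_mono Q Set.subset_union_left))
      (hG.trans (pre_mono (NS_mono Q Set.subset_union_right)))
  have hspanM' : NS Q J' ≤ M'.baseChange S := by
    refine iSup₂_le fun i hi => ?_
    rcases hi with hi | hi
    · exact ((le_NS Q hi).trans hJ).trans (Submodule.baseChange_mono S le_sup_left)
    · rw [← hspan i, Submodule.span_le]
      intro t ht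
      refine Submodule.baseChange_mono S ?_ (hT t)
      refine le_trans (Submodule.span_mono ?_) le_sup_right
      exact (Set.subset_biUnion_of_mem (u := fun t => (↑(T t) : Set M)) ht).trans
        (Set.subset_biUnion_of_mem (u := gens) hi)
  have hM'eq : M'.baseChange S = NS Q J' := le_antisymm (baseChange_le_of_le_pre hM'le) hspanM'
  have hcM' : IsCompl (M'.baseChange S) (NS Q J'ᶜ) := by
    rw [hM'eq]; exact isCompl_NS Q hind htop J'
  let A := pre (NS Q J)
  have hcA : IsCompl (A.baseChange S) (NS Q Jᶜ) := by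
    rw [adm_eq Q hJ]; exact isCompl_NS Q hind htop J
  have hflM' : Module.Flat R (M ⧸ M') := flat_quotient_of_isCompl hinj hcM'
  have hpre : pre (NS Q J') = M' := pre_eq_of_flat hinj hM'eq
  have hadm : NS Q J' ≤ (pre (NS Q J')).baseChange S := by
    rw [hpre]
    exact hspanM'
  have hflN : Module.Flat R ((M ⧸ A) ⧸ M'.map A.mkQ) :=
    Module.Flat.of_linearEquiv (Submodule.quotientQuotientEquivQuotient A M' le_sup_left)
  have hSN : Module.Projective S (S ⊗[R] (M'.map A.mkQ)) :=
    projective_baseChange_subquotient (A := A) le_sup_left hcA hcM'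
      (baseChange_subtype_injective (M'.map A.mkQ))
  have : Module.Flat R (M'.map A.mkQ) := FlatDescFiniteLib.desc R S hinj _ inferInstance
  have hMLN : CAlg.IsMittagLeffler R (M'.map A.mkQ) :=
    isMittagLeffler_desc hinj (isMittagLeffler_of_projective _)
  have hNspan : Submodule.span R (A.mkQ '' G) = M'.map A.mkQ := by
    rw [Submodule.span_image, Submodule.map_sup, Submodule.mkQ_map_self, bot_sup_eq]
  obtain ⟨tN, htN, htNspan⟩ :=
    (isCountablyGenerated_iff (M'.map A.mkQ)).2 ⟨_, hGc.image _, hNspan⟩
  have : Module.Projective R (M'.map A.mkQ) :=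
    projective_of_flat_mittagLeffler_countable hMLN tN htN htNspan
  obtain ⟨C, hC1, hC2, hC3⟩ := exists_compl_of_projective (A := A) (A' := M') le_sup_left
  exact ⟨J', C, ⟨Set.subset_union_left, fun h => hi₀ (h (Or.inr hi₀'))⟩, hadm, hC1, hC2,
    hC3.trans hpre.symm⟩

end step

variable (M) in
theorem projective_of_finite_injective [Module.Projective S (S ⊗[R] M)] :
    Module.Projective R M := by
  classical
  have hflat : Module.Flat R M := FlatDescFiniteLib.desc R S hinj M inferInstance
  obtain ⟨𝒬, hQ1, hQ2, hQ3⟩ := exists_countable_decomposition_of_projective S (S ⊗[R] M)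
  let Q : 𝒬 → Submodule S (S ⊗[R] M) := fun C => C
  have hind : iSupIndep Q := (sSupIndep_iff 𝒬).1 hQ1
  have htop : iSup Q = ⊤ := by rw [← hQ2, sSup_eq_iSup']
  have hbot : NS Q ∅ = ⊥ := by simp [NS]
  have key := exists_decomposition (fun J => pre (NS Q J))
    (fun J => NS Q J ≤ (pre (NS Q J)).baseChange S)
    (fun C => Module.Projective R C) (hbot.le.trans bot_le) ?_
    (fun _ _ h => pre_mono (NS_mono Q h)) ?_ ?_
    (fun J hJ hJne => descent_step hinj Q hind htop (fun i => hQ3 i.1 i.2) J hJ hJne)
  · obtain ⟨𝓛, h1, h2, h3⟩ := key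
    have h2' : sSup 𝓛 = ⊤ := by
      rw [h2, eq_top_iff]
      intro m _
      rw [mem_pre]
      have : NS Q Set.univ = ⊤ := by rw [← htop]; simp [NS]
      rw [this]
      exact Submodule.mem_top
    exact projective_of_isInternal (isInternal_of_sSupIndep h1 h2') fun C => h3 C C.2
  · rw [eq_bot_iff]
    intro m hm
    rw [mem_pre, hbot, Submodule.mem_bot] at hm
    exact mk_injective_of_flat hinj M (hm.trans (map_zero _).symm)
  · intro c hne hd hA x hx
    obtain ⟨J, hJ, hxJ⟩ := mem_NS_sUnion Q hne hd hx
    exact Submodule.baseChange_mono S (pre_mono (NS_mono Q (Set.subset_sUnion_of_mem hJ)))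
      (hA J hJ hxJ)
  · intro c hne hd _ m hm
    obtain ⟨J, hJ, hxJ⟩ := mem_NS_sUnion Q hne hd (mem_pre.1 hm)
    exact le_biSup (fun J => pre (NS Q J)) hJ (mem_pre.2 hxJ)

end Groth.Agent.ProjFinInjLib
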